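import Cfsg.Agent.Lib.Fusion.QdFree
import Cfsg.Agent.Lib.Fusion.QdFreeIff
import Cfsg.Agent.Lib.Fusion.Chains
import Cfsg.Agent.Lib.Fusion.Stable
import Cfsg.Agent.Lib.PStableQ.Main
import Cfsg.Agent.Lib.PStableQ.CentralQuot
import Cfsg.Agent.Lib.Techniques.LocFree
import Mathlib

/-! # Fusion systems of `p`-stable groups, first part: reductions -/

set_option autoImplicit false
set_option linter.style.haveILetI false

namespace Cfsg.Agent.Lib.PStableQ.FusionMain

open Cfsg Cfsg.FusionSystem Cfsg.Agent.Lib.Fusion Cfsg.Agent.Lib.Techniques Cfsg.Agent.Lib.PStableQ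

universe u

variable {p : ℕ} [hfp : Fact p.Prime]

section stable

variable {G : Type*} [Group G] [Finite G]

theorem stable_of_equiv (hst : IsNormalizerPStable p G) {X : Type*} [Group X] (e : G ≃* X) :
    IsNormalizerPStable p X := by
  haveI : Finite X := Finite.of_equiv _ e.toEquiv
  refine stable_quotient_pprime hst e.toMonoidHom e.surjective ?_
  have : e.toMonoidHom.ker = ⊥ := (MonoidHom.ker_eq_bot_iff _).2 e.injective
  rw [this, Subgroup.card_bot]
  exact Nat.coprime_one_left p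

theorem stable_le {Ω : Type*} [Group Ω] {H H₁ : Subgroup Ω} [Finite H] (hst : IsNormalizerPStable p ↥H) (hle : H₁ ≤ H) :
    IsNormalizerPStable p ↥H₁ :=
  stable_of_equiv (stable_subgroup hst (H₁.subgroupOf H)) (Subgroup.subgroupOfEquivOfLe hle)

theorem stable_central_image (hp : p ≠ 2) (hst : IsNormalizerPStable p G) {X : Type*} [Group X] (π : G →* X)
    (hπ : Function.Surjective π) (hker : π.ker ≤ Subgroup.center G) (hkp : IsPGroup p π.ker) : IsNormalizerPStable p X :=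
  stable_of_equiv (Central.isNormalizerPStable_quotient_central hp hst π.ker hker hkp)
    (QuotientGroup.quotientKerEquivOfSurjective π hπ)

end stable

section local_systems

variable {Ω : Type*} [Group Ω] {H T : Subgroup Ω}

theorem normalizes_of_ext {P U : Subgroup Ω} [Finite U] {ψ : ↥(P ⊔ U) →* Ω} (hψ : (U.subgroupOf (P ⊔ U)).map ψ = U)
    {g : Ω} (hg : ∀ x, ψ x = g * x * g⁻¹) : g ∈ Subgroup.normalizer (U : Set Ω) := by
  refine mem_normalizer_of_forall fun y hy => ?_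
  have h1 : ψ ⟨y, Subgroup.mem_sup_right hy⟩ ∈ (U.subgroupOf (P ⊔ U)).map ψ :=
    ⟨_, Subgroup.mem_subgroupOf.2 hy, rfl⟩
  rw [hψ, hg] at h1
  exact h1

/-- Conjugation by a normalizing element on the join. -/
theorem conj_sup_mem {P U : Subgroup Ω} (hUT : U ≤ T) {g : Ω} (hg : g ∈ Subgroup.normalizer (U : Set Ω))
    (hP : ∀ x ∈ P, g * x * g⁻¹ ∈ T) : ∀ x ∈ P ⊔ U, g * x * g⁻¹ ∈ T := by
  have hle : P ⊔ U ≤ T.comap (MulAut.conj g).toMonoidHom := by
    refine sup_le (fun x hx => hP x hx) fun x hx => ?_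
    exact hUT (Fusion.conj_mem_of_mem_normalizer hg hx)
  exact fun x hx => hle hx

theorem map_conj_eq {P U : Subgroup Ω} {g : Ω} (hg : g ∈ Subgroup.normalizer (U : Set Ω)) :
    (U.subgroupOf (P ⊔ U)).map (conjHom (P ⊔ U) g) = U := by
  ext y
  rw [mem_subgroupOf_map_iff]
  constructor
  · rintro ⟨x, hxH, hx, rfl⟩
    exact Fusion.conj_mem_of_mem_normalizer hg hx
  · intro hy
    have h1 : g⁻¹ * y * g ∈ U := by
      have := Fusion.conj_mem_of_mem_normalizer (Subgroup.inv_mem _ hg) hy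
      simpa using this
    refine ⟨_, Subgroup.mem_sup_right h1, h1, ?_⟩
    simp [conjHom]
    group

variable (hTH : T ≤ H)

include hTH in
/-- A subgroup normal in `H` is normal in the system. -/
theorem isNormal_of_le_normalizer {U : Subgroup Ω} (hU : U ≤ T) (hN : H ≤ Subgroup.normalizer (U : Set Ω)) :
    (fusionSystemOfSubgroup H T hTH).IsNormal U := by
  refine ⟨hU, fun P φ hφ => ?_⟩
  obtain ⟨hPT, hval, g, hg, hv⟩ := hφ
  refine ⟨conjHom (P ⊔ U) g, conjHom_mem_fH hTH (sup_le hPT hU) hg (conj_sup_mem hU (hN hg) fun x hx => ?_),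
    fun x => (hv x).symm, map_conj_eq (hN hg)⟩
  have := hval ⟨x, hx⟩
  rwa [hv] at this

/-- The normalizer system is the system of the normalizer. -/
theorem normalizerSystem_eq {U : Subgroup Ω} [Finite U] (hU : U ≤ T) {D : FusionSystem (normalizerIn T U)}
    (hD : (fusionSystemOfSubgroup H T hTH).IsNormalizerSystem U D) :
    D = fusionSystemOfSubgroup (normalizerIn H U) (normalizerIn T U) (inf_le_inf_right _ hTH) := by
  refine fusion_ext fun P => ?_
  ext φ
  rw [hD P]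
  constructor
  · rintro ⟨-, hPN, hvN, ψ, ⟨-, -, g, hg, hgv⟩, hψφ, hψU⟩
    refine ⟨hPN, hvN, g, mem_normalizerIn.2 ⟨hg, normalizes_of_ext hψU hgv⟩, fun x => ?_⟩
    rw [← hψφ x, hgv]
    rfl
  · rintro ⟨hPN, hvN, g, hg, hv⟩
    obtain ⟨hgH, hgN⟩ := mem_normalizerIn.1 hg
    have hPT := hPN.trans (normalizerIn_le U)
    refine ⟨⟨hPT, fun x => normalizerIn_le U (hvN x), g, hgH, hv⟩, hPN, hvN, conjHom (P ⊔ U) g,
      conjHom_mem_fH hTH (sup_le hPT hU) hgH (conj_sup_mem hU hgN fun x hx => ?_), fun x => (hv x).symm, map_conj_eq hgN⟩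
    have := normalizerIn_le U (hvN ⟨x, hx⟩)
    rwa [hv] at this

/-- For a normal subgroup `R` of the system, the system is that of `N_H(R)`. -/
theorem eq_fH_normalizer {R : Subgroup Ω} [Finite R] (hR : (fusionSystemOfSubgroup H T hTH).IsNormal R)
    (hle : T ≤ normalizerIn H R) : fusionSystemOfSubgroup (normalizerIn H R) T hle = fusionSystemOfSubgroup H T hTH := by
  refine fusion_ext fun P => ?_
  ext φ
  constructor
  · rintro ⟨h1, h2, g, hg, hv⟩
    exact ⟨h1, h2, g, (mem_normalizerIn.1 hg).1, hv⟩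
  · intro hφ
    obtain ⟨ψ, ⟨-, -, g, hg, hgv⟩, hψφ, hψR⟩ := hR.2 P φ hφ
    refine ⟨hφ.1, hφ.2.1, g, mem_normalizerIn.2 ⟨hg, normalizes_of_ext hψR hgv⟩, fun x => ?_⟩
    rw [← hψφ x, hgv]
    rfl

end local_systems

section chain

variable {Ω : Type u} [Group Ω] {S : Subgroup Ω} [Finite S] {F : FusionSystem S} {W : ∀ (Q : Type u) [Group Q], Subgroup Q}

/-- The chain argument: normality of `W` in the proper normalizer systems gives normality in `F`. -/
theorem isNormal_funW_chain'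
    (hW1 : ∀ (Q : Type u) [Group Q] [Finite Q], IsPGroup p Q → Nontrivial Q → W Q ≠ ⊥)
    (hW2 : ∀ (Q R : Type u) [Group Q] [Group R] [Finite Q], IsPGroup p Q → ∀ φ : Q ≃* R, (W Q).map φ.toMonoidHom = W R)
    (hS : IsPGroup p S) (hF : F.IsSaturated p) (hne : S ≠ ⊥)
    (hIH : ∀ {U₀ : Subgroup Ω}, F.IsFullyNormalized U₀ → U₀ ≠ ⊥ → ∀ D : FusionSystem (normalizerIn S U₀),
      F.IsNormalizerSystem U₀ D → D.IsNormal (funW W (normalizerIn S U₀))) : F.IsNormal (funW W S) := by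
  have hXS := funW_le W S
  obtain ⟨N, hN⟩ := Cfsg.Agent.S5096.result F (funW W S) hXS
  have hNS := normalizerIn_funW (W := W) hS hW2
  have hNF : ∀ P, N.Hom P ⊆ F.Hom P := fun P φ hφ => by
    rw [hN P] at hφ
    exact hφ.1
  have hle : ∀ P, F.Hom P ⊆ N.Hom P := by
    by_contra hcon
    push Not at hcon
    obtain ⟨P, hP⟩ := hcon
    obtain ⟨φ, hφ, hφN⟩ := Set.not_subset.1 hP
    obtain ⟨Q, hQn, hQc, ⟨α, hα, hαN⟩, hmax⟩ := exists_notin_max hS hF hNS.ge ⟨P, φ, hφ, hφN⟩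
    have hQS := hQn.1
    have : Finite Q := finite_of_le hQS
    obtain ⟨D, hD⟩ := Cfsg.Agent.S5096.result F Q hQS
    have hTp : IsPGroup p (normalizerIn S Q) := hS.to_le (normalizerIn_le Q)
    have : Finite (normalizerIn S Q) := finite_of_le (normalizerIn_le Q)
    have hQne : Q ≠ ⊥ := by
      rintro rfl
      apply hne
      rw [eq_bot_iff]
      intro g hg
      exact IsCentric.centralizer_le hQc (mem_centralizerIn.2 ⟨hg, fun x hx => by
        rw [Subgroup.mem_bot] at hx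
        simp [hx]⟩)
    have hDX := hIH hQn hQne D hD
    have hαD : Q.subtype.comp α.toMonoidHom ∈ D.Hom Q :=
      (mem_autGroup_iff (le_normalizerIn hQS)).1 (by rw [autGroup_normalizerSystem hQS hD]; exact hα)
    obtain ⟨ψ, hψ, hψ1, hψ2⟩ := hDX.2 Q _ hαD
    have hmem : Q.subtype.comp α.toMonoidHom ∈ F.normalizerHom (funW W (normalizerIn S Q)) Q := by
      refine ⟨(by rw [hD] at hαD; exact hαD.1), ?_, ?_, ψ, (by rw [hD] at hψ; exact hψ.1), hψ1, hψ2⟩
      · intro x hx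
        have hx' := le_normalizerIn hQS hx
        exact mem_normalizerIn.2 ⟨hQS hx, funW_normalized hW2 hTp (Subgroup.le_normalizer hx')⟩
      · intro x
        have hx' := le_normalizerIn hQS (α x).2
        exact mem_normalizerIn.2 ⟨hQS (α x).2, funW_normalized hW2 hTp (Subgroup.le_normalizer hx')⟩
    have hTne : normalizerIn S Q ≠ ⊥ := by
      intro hb
      exact hQne (le_bot_iff.1 (hb ▸ le_normalizerIn hQS))
    exact funW_loop hS hF hN hW1 hW2 hmax hIH _ (normalizerIn S Q) le_rfl (normalizerIn_le Q) hTne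
      (card_le_of_le (normalizerIn_le Q) (le_normalizerIn hQS)) ⟨Q, _, hmem, hαN⟩
  exact isNormal_of_hom_eq hNS (fun P => Set.Subset.antisymm (hle P) (hNF P)) (isNormal_normalizerSystem hXS hN)

end chain

section conversion

variable {G : Type*} [Group G] [Finite G]

/-- A `p`-stable system on a Sylow subgroup gives a `p`-stable group. -/
theorem isNormalizerPStable_of_sys (S : Sylow p G) (h : IsStableSys (groupFusionSystem (S : Subgroup G)) p) :
    IsNormalizerPStable p G := by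
  classical
  intro P hP g hg hq
  obtain ⟨k, -, hk₀⟩ := IsSylowIn.exists_conj_le (isSylowIn_of_sylow S) hP (le_top : P ≤ ⊤)
  obtain ⟨Q, hQ⟩ : ∃ Q, Q = conjSub k P := ⟨_, rfl⟩
  have hQS : Q ≤ (S : Subgroup G) := by
    rw [hQ]
    rintro _ ⟨x, hx, rfl⟩
    exact hk₀ x hx
  have hkN : ∀ n : ↥(Subgroup.normalizer (P : Set G)), (MulAut.conj k).toMonoidHom (n : G) ∈ Subgroup.normalizer (Q : Set G) := by
    intro n
    rw [hQ, normalizer_conjSub]
    exact conj_mem_conjSub n.2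
  let f₁ : ↥(Subgroup.normalizer (P : Set G)) →* ↥(Subgroup.normalizer (Q : Set G)) :=
    ((MulAut.conj k).toMonoidHom.comp (Subgroup.subtype _)).codRestrict _ hkN
  let f : ↥(Subgroup.normalizer (P : Set G)) →* MulAut Q := (Subgroup.normalizerMonoidHom (H := Q)).comp f₁
  have hfv : ∀ (n : ↥(Subgroup.normalizer (P : Set G))) (x : Q), ((f n x : Q) : G) = (k * n * k⁻¹) * x * (k * n * k⁻¹)⁻¹ := fun n x => rfl
  have hauto : (groupFusionSystem (S : Subgroup G)).autGroup Q = autInducedBy ⊤ Q := by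
    rw [groupFusionSystem_eq]
    exact autGroup_fH le_top hQS
  have hfA : ∀ n, f n ∈ (groupFusionSystem (S : Subgroup G)).autGroup Q := fun n => by
    rw [hauto]
    exact mem_autInducedBy_iff.2 ⟨_, trivial, hfv n⟩
  obtain ⟨A, hA⟩ : ∃ A, A = (groupFusionSystem (S : Subgroup G)).autGroup Q := ⟨_, rfl⟩
  have hfA' : ∀ n, f n ∈ A := fun n => hA ▸ hfA n
  let f₂ : ↥(Subgroup.normalizer (P : Set G)) →* A := f.codRestrict A hfA'
  have hquad : QuadAut (f ⟨g, hg⟩) := by
    intro a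
    have haQ : k⁻¹ * (a : G) * k ∈ P := by
      have h0 : (a : G) ∈ conjSub k P := hQ ▸ a.2
      exact mem_conjSub.1 h0
    have h1 := Central.quad_of_comm_bot hq (P.inv_mem haQ)
    set a₀ := k⁻¹ * (a : G) * k with ha₀
    have hae : (a : G) = k * a₀ * k⁻¹ := by rw [ha₀]; group
    apply Subtype.ext
    rw [map_inv]
    simp only [Subgroup.coe_mul, Subgroup.coe_inv, hfv, Subgroup.coe_one]
    rw [hae]
    set δ := g * a₀⁻¹ * g⁻¹ * a₀⁻¹⁻¹ with hδ
    have h2 : g * δ * g⁻¹ = δ := h1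
    have e : k * g * k⁻¹ * (k * a₀ * k⁻¹) * (k * g * k⁻¹)⁻¹ = k * (g * a₀ * g⁻¹) * k⁻¹ := by group
    rw [e]
    have e2 : ((k * (g * a₀ * g⁻¹) * k⁻¹)⁻¹ * (k * a₀ * k⁻¹) * (k * (g * a₀ * g⁻¹) * k⁻¹)⁻¹ *
        (k * g * k⁻¹ * (k * (g * a₀ * g⁻¹) * k⁻¹) * (k * g * k⁻¹)⁻¹)) = k * (δ * (g * δ⁻¹ * g⁻¹)) * k⁻¹ := by
      rw [hδ]
      group
    have h3 : g * δ⁻¹ * g⁻¹ = δ⁻¹ := by rw [← conj_inv, h2]
    rw [e2, h3, mul_inv_cancel]
    group
  have hmem := IsStableSys.all h hQS (hfA _) hquad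
  rw [← hA] at hmem
  haveI : Finite A := by
    rw [hA]
    exact finite_autGroup _ hQS
  obtain ⟨a, ha, hae⟩ := hmem
  have hg₂ : f₂ ⟨g, hg⟩ ∈ pCore p A := by
    have : a = f₂ ⟨g, hg⟩ := Subtype.ext hae
    rwa [← this]
  have hDn := (Lib.Core.pCore_normal p A).comap f₂
  refine Lib.Core.le_pCore (hDn.map _ (QuotientGroup.mk'_surjective _)) ?_ ⟨⟨g, hg⟩, hg₂, rfl⟩
  rintro ⟨_, d, hd, rfl⟩
  obtain ⟨e, he⟩ := Lib.Core.pCore_isPGroup (p := p) (G := A) ⟨_, hd⟩
  have h1 : f (d ^ p ^ e) = 1 := by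
    have := congrArg Subtype.val (congrArg Subtype.val he)
    rw [map_pow]
    exact this
  refine ⟨e, Subtype.ext ?_⟩
  show (d : ↥(Subgroup.normalizer (P : Set G)) ⧸ (Subgroup.centralizer (P : Set G)).subgroupOf (Subgroup.normalizer (P : Set G))) ^ p ^ e = 1
  rw [← QuotientGroup.mk_pow, QuotientGroup.eq_one_iff, Subgroup.mem_subgroupOf, Subgroup.mem_centralizer_iff]
  intro x hx
  have h2 := DFunLike.congr_fun h1 ⟨k * x * k⁻¹, by rw [hQ]; exact conj_mem_conjSub hx⟩
  have h3 := congrArg Subtype.val h2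
  rw [hfv] at h3
  have h4 : k * ((d ^ p ^ e : ↥(Subgroup.normalizer (P : Set G))) : G) * k⁻¹ * (k * x * k⁻¹) * (k * ((d ^ p ^ e : ↥(Subgroup.normalizer (P : Set G))) : G) * k⁻¹)⁻¹ = k * x * k⁻¹ := h3
  set w : G := ((d ^ p ^ e : ↥(Subgroup.normalizer (P : Set G))) : G) with hw
  have h5 : k * (w * x * w⁻¹) * k⁻¹ = k * x * k⁻¹ := by
    rw [← h4]
    group
  have h6 : w * x * w⁻¹ = x := by
    have := mul_right_cancel h5
    exact mul_left_cancel this
  calc x * w = (w * x * w⁻¹) * w := by rw [h6]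
    _ = w * x := by group

end conversion

end Cfsg.Agent.Lib.PStableQ.FusionMain
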