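import Cfsg.Agent.Lib.PStableQ.FusionA
import Mathlib

/-! # Fusion systems of `p`-stable groups, second part: lifting a normal subgroup through a central quotient of the centralizer -/

set_option autoImplicit false
set_option linter.style.haveILetI false

namespace Cfsg.Agent.Lib.PStableQ.FusionMain

open Cfsg Cfsg.FusionSystem Cfsg.Agent.Lib.Fusion Cfsg.Agent.Lib.Techniques Cfsg.Agent.Lib.PStableQ

universe u

variable {p : ℕ} [hfp : Fact p.Prime]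

section piT

variable {Ω Ω' : Type*} [Group Ω] [Group Ω'] {H : Subgroup Ω}

open _root_.Classical in
/-- A total version of a homomorphism on a subgroup. -/
noncomputable def piT (π : ↥H →* Ω') (x : Ω) : Ω' := if h : x ∈ H then π ⟨x, h⟩ else 1

theorem piT_of_mem (π : ↥H →* Ω') {x : Ω} (hx : x ∈ H) : piT π x = π ⟨x, hx⟩ := dif_pos hx

theorem piT_mul (π : ↥H →* Ω') {x y : Ω} (hx : x ∈ H) (hy : y ∈ H) : piT π (x * y) = piT π x * piT π y := by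
  rw [piT_of_mem π hx, piT_of_mem π hy, piT_of_mem π (H.mul_mem hx hy), ← map_mul]
  rfl

theorem piT_one (π : ↥H →* Ω') : piT π 1 = 1 := by
  rw [piT_of_mem π H.one_mem]
  exact map_one π

theorem piT_inv (π : ↥H →* Ω') {x : Ω} (hx : x ∈ H) : piT π x⁻¹ = (piT π x)⁻¹ := by
  rw [piT_of_mem π hx, piT_of_mem π (H.inv_mem hx), ← map_inv]
  rfl

theorem piT_conj (π : ↥H →* Ω') {g x : Ω} (hg : g ∈ H) (hx : x ∈ H) :
    piT π (g * x * g⁻¹) = piT π g * piT π x * (piT π g)⁻¹ := by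
  rw [piT_mul π (H.mul_mem hg hx) (H.inv_mem hg), piT_mul π hg hx, piT_inv π hg]

theorem piT_pow (π : ↥H →* Ω') {x : Ω} (hx : x ∈ H) (n : ℕ) : piT π (x ^ n) = (piT π x) ^ n := by
  induction n with
  | zero => simp [piT_one]
  | succ n ih => rw [pow_succ, piT_mul π (H.pow_mem hx n) hx, ih, pow_succ]

end piT

section pcore

variable {X : Type*} [Group X]

/-- The `p`-core of a subgroup is invariant under automorphisms normalizing the subgroup. -/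
theorem pCore_conj_mem (A : Subgroup X) [Finite A] (α : X) (hα : ∀ β ∈ A, α * β * α⁻¹ ∈ A) {δ : X}
    (hδ : δ ∈ (pCore p A).map A.subtype) : α * δ * α⁻¹ ∈ (pCore p A).map A.subtype := by
  obtain ⟨a, ha, rfl⟩ := hδ
  let f : A →* A :=
    { toFun := fun β => ⟨α * β * α⁻¹, hα β β.2⟩
      map_one' := Subtype.ext (by simp)
      map_mul' := fun x y => Subtype.ext (by simp) }
  have hinj : Function.Injective f := by
    intro x y hxy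
    have h1 : α * (x : X) * α⁻¹ = α * (y : X) * α⁻¹ := congrArg Subtype.val hxy
    apply Subtype.ext
    have h2 := mul_right_cancel h1
    exact mul_left_cancel h2
  let e : A ≃* A := MulEquiv.ofBijective f ⟨hinj, Finite.injective_iff_surjective.1 hinj⟩
  have hc : (pCore p A).comap e.toMonoidHom = pCore p A := Subgroup.characteristic_iff_comap_eq.mp (Lib.Core.pCore_characteristic (p := p) (G := A)) e
  have h1 : a ∈ (pCore p A).comap e.toMonoidHom := by rw [hc]; exact ha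
  exact ⟨e a, h1, rfl⟩

end pcore

section lift

variable {Ω Ω' : Type u} [Group Ω] [Group Ω'] {H T R : Subgroup Ω}

/-- **Lifting.** If `π : H → Ω'` has kernel `Z(R)`, `R ⊴ H`, and `W(T̄₁)` is normal in the system of the image of `C_H(R)`,
then the preimage of `W(T̄₁)` is normal in the system of `H`. -/
theorem isNormal_pre (hTH : T ≤ H) [Finite H] (hT : IsSylowIn p T H) (hRT : R ≤ T)
    (hRH : H ≤ Subgroup.normalizer (R : Set Ω)) (hRF : (fusionSystemOfSubgroup H T hTH).IsNormal R)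
    (π : ↥H →* Ω') (hker : ∀ x : ↥H, π x = 1 ↔ (x : Ω) ∈ centralizerIn R R)
    {Cb Tb : Subgroup Ω'} [Finite Tb] (hCb : ∀ y, y ∈ Cb ↔ ∃ c ∈ centralizerIn H R, piT π c = y)
    (hTb : ∀ y, y ∈ Tb ↔ ∃ t ∈ centralizerIn T R, piT π t = y) (hTbCb : Tb ≤ Cb)
    (hN : (fusionSystemOfSubgroup Cb Tb hTbCb).IsNormal (funW Fusion.zjFun.{u} Tb)) {W₁ : Subgroup Ω}
    (hW₁ : ∀ x, x ∈ W₁ ↔ x ∈ H ∧ piT π x ∈ funW Fusion.zjFun.{u} Tb) :
    (fusionSystemOfSubgroup H T hTH).IsNormal W₁ := by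
  classical
  have : Finite T := Finite.of_injective (Subgroup.inclusion hTH) (Subgroup.inclusion_injective hTH)
  have hFs := isSaturated_fH hTH hT
  have hTp : IsPGroup p T := hT.isPGroup hTH
  obtain ⟨C, hCdef⟩ : ∃ C, C = centralizerIn H R := ⟨_, rfl⟩
  obtain ⟨T₁, hT₁def⟩ : ∃ T₁, T₁ = centralizerIn T R := ⟨_, rfl⟩
  obtain ⟨Z, hZdef⟩ : ∃ Z, Z = centralizerIn R R := ⟨_, rfl⟩
  rw [← hCdef] at hCb
  rw [← hT₁def] at hTb
  rw [← hZdef] at hker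
  have hCmem : ∀ {c : Ω}, c ∈ C ↔ c ∈ H ∧ ∀ x ∈ R, x * c = c * x := fun {c} => by
    rw [hCdef, mem_centralizerIn]
  have hT₁mem : ∀ {c : Ω}, c ∈ T₁ ↔ c ∈ T ∧ ∀ x ∈ R, x * c = c * x := fun {c} => by
    rw [hT₁def, mem_centralizerIn]
  have hZmem : ∀ {c : Ω}, c ∈ Z ↔ c ∈ R ∧ ∀ x ∈ R, x * c = c * x := fun {c} => by
    rw [hZdef, mem_centralizerIn]
  have hCH : C ≤ H := fun c hc => (hCmem.1 hc).1
  have hT₁C : T₁ ≤ C := fun c hc => hCmem.2 ⟨hTH (hT₁mem.1 hc).1, (hT₁mem.1 hc).2⟩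
  have hT₁T : T₁ ≤ T := fun c hc => (hT₁mem.1 hc).1
  have hCconj : ∀ g ∈ H, ∀ c ∈ C, g * c * g⁻¹ ∈ C := by
    intro g hg c hc
    obtain ⟨hcH, hcc⟩ := hCmem.1 hc
    refine hCmem.2 ⟨H.mul_mem (H.mul_mem hg hcH) (H.inv_mem hg), fun x hx => ?_⟩
    have hy : g⁻¹ * x * g ∈ R := by
      have := Fusion.conj_mem_of_mem_normalizer (Subgroup.inv_mem _ (hRH hg)) hx
      simpa using this
    have h := hcc _ hy
    calc x * (g * c * g⁻¹) = g * ((g⁻¹ * x * g) * c) * g⁻¹ := by group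
      _ = g * (c * (g⁻¹ * x * g)) * g⁻¹ := by rw [h]
      _ = g * c * g⁻¹ * x := by group
  have hCn : (C.subgroupOf H).Normal := ⟨fun c hc g =>
    Subgroup.mem_subgroupOf.2 (hCconj g g.2 c (Subgroup.mem_subgroupOf.1 hc))⟩
  have hT₁ : IsSylowIn p T₁ C := by
    have h1 := hT.inf_normal hTH hCH hCn
    have e : T ⊓ C = T₁ := by
      ext x
      rw [Subgroup.mem_inf, hCmem, hT₁mem]
      exact ⟨fun h => ⟨h.1, h.2.2⟩, fun h => ⟨h.1, hTH h.1, h.2⟩⟩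
    rwa [e] at h1
  have hT₁p : IsPGroup p T₁ := hTp.to_le hT₁T
  have : Finite T₁ := Finite.of_injective (Subgroup.inclusion hT₁T) (Subgroup.inclusion_injective hT₁T)
  have hZT₁ : Z ≤ T₁ := fun z hz => hT₁mem.2 ⟨hRT (hZmem.1 hz).1, (hZmem.1 hz).2⟩
  have hZ1 : ∀ {x : Ω}, x ∈ H → (piT π x = 1 ↔ x ∈ Z) := fun {x} hx => by
    rw [piT_of_mem π hx]
    exact hker ⟨x, hx⟩
  obtain ⟨Wb, hWbdef⟩ : ∃ Wb, Wb = funW Fusion.zjFun.{u} Tb := ⟨_, rfl⟩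
  rw [← hWbdef] at hW₁ hN
  have hWbTb : Wb ≤ Tb := hWbdef ▸ funW_le _ Tb
  have hTbp : IsPGroup p Tb := by
    rintro ⟨y, hy⟩
    obtain ⟨t, ht, rfl⟩ := (hTb y).1 hy
    obtain ⟨k, hk⟩ := hT₁p ⟨t, ht⟩
    refine ⟨k, Subtype.ext ?_⟩
    have h1 : t ^ p ^ k = 1 := congrArg Subtype.val hk
    show (piT π t) ^ p ^ k = 1
    rw [← piT_pow π (hCH (hT₁C ht)), h1, piT_one]
  have hWbp : IsPGroup p Wb := hTbp.to_le hWbTb
  have : Finite Wb := Finite.of_injective (Subgroup.inclusion hWbTb) (Subgroup.inclusion_injective hWbTb)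
  have hW₁T₁ : W₁ ≤ T₁ := by
    intro x hx
    obtain ⟨hxH, hxW⟩ := (hW₁ x).1 hx
    obtain ⟨t, ht, hte⟩ := (hTb _).1 (hWbTb hxW)
    have htH := hCH (hT₁C ht)
    have h1 : piT π (t⁻¹ * x) = 1 := by
      rw [piT_mul π (H.inv_mem htH) hxH, piT_inv π htH, hte, inv_mul_cancel]
    have h2 := hZT₁ ((hZ1 (H.mul_mem (H.inv_mem htH) hxH)).1 h1)
    have h3 := T₁.mul_mem ht h2
    rwa [mul_inv_cancel_left] at h3
  have hconjW : ∀ n ∈ H, n ∈ Subgroup.normalizer (T₁ : Set Ω) → ∀ x ∈ W₁, n * x * n⁻¹ ∈ W₁ := by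
    intro n hnH hn x hx
    obtain ⟨hxH, hxW⟩ := (hW₁ x).1 hx
    have hnb : piT π n ∈ Subgroup.normalizer (Tb : Set Ω') := by
      refine mem_normalizer_of_forall fun y hy => ?_
      obtain ⟨t, ht, rfl⟩ := (hTb y).1 hy
      refine (hTb _).2 ⟨n * t * n⁻¹, Fusion.conj_mem_of_mem_normalizer hn ht, ?_⟩
      rw [piT_conj π hnH (hCH (hT₁C ht))]
    have hnw := funW_normalized (W := Fusion.zjFun.{u}) (fun Q R _ _ _ h φ => zjFun_inv Q R h φ) hTbp hnb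
    rw [← hWbdef] at hnw
    refine (hW₁ _).2 ⟨H.mul_mem (H.mul_mem hnH hxH) (H.inv_mem hnH), ?_⟩
    rw [piT_conj π hnH hxH]
    exact Fusion.conj_mem_of_mem_normalizer hnw hxW
  have hfrat : ∀ g ∈ H, ∃ c ∈ C, c * g ∈ Subgroup.normalizer (T₁ : Set Ω) := by
    intro g hg
    have hle : conjSub g T₁ ≤ C := by
      rintro _ ⟨t, ht, rfl⟩
      exact hCconj g hg t (hT₁C ht)
    have : Finite C := Finite.of_injective (Subgroup.inclusion hCH) (Subgroup.inclusion_injective hCH)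
    obtain ⟨c, hc, hcv⟩ := IsSylowIn.exists_conj_le hT₁ (W := conjSub g T₁) (hT₁p.map _) hle
    refine ⟨c, hc, mem_normalizer_of_forall fun t ht => ?_⟩
    have h1 := hcv _ (conj_mem_conjSub (g := g) ht)
    have e : c * g * t * (c * g)⁻¹ = c * (g * t * g⁻¹) * c⁻¹ := by group
    rw [e]
    exact h1
  -- strong closure
  have hSC : (fusionSystemOfSubgroup H T hTH).StronglyClosed W₁ := by
    refine ⟨hW₁T₁.trans hT₁T, fun R' hR' φ hφ x => ?_⟩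
    obtain ⟨-, hval, g, hg, hv⟩ := hφ
    have hx₀W : (x : Ω) ∈ W₁ := hR' x.2
    have hyT := hval x
    rw [hv] at hyT ⊢
    obtain ⟨c, hc, hn⟩ := hfrat g hg
    have hcH := hCH hc
    have hw := hconjW (c * g) (H.mul_mem hcH hg) hn _ hx₀W
    set w := c * g * (x : Ω) * (c * g)⁻¹ with hwd
    have hwH : w ∈ H := (hW₁ w).1 hw |>.1
    have hyC : g * (x : Ω) * g⁻¹ ∈ C := hCconj g hg _ (hT₁C (hW₁T₁ hx₀W))
    have hyT₁ : g * (x : Ω) * g⁻¹ ∈ T₁ := hT₁mem.2 ⟨hyT, (hCmem.1 hyC).2⟩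
    have e : g * (x : Ω) * g⁻¹ = c⁻¹ * w * c⁻¹⁻¹ := by
      rw [hwd]
      group
    have hτw : piT π w ∈ Wb := ((hW₁ w).1 hw).2
    have hτy : piT π (g * (x : Ω) * g⁻¹) ∈ Tb := (hTb _).2 ⟨_, hyT₁, rfl⟩
    have hτe : piT π (g * (x : Ω) * g⁻¹) = piT π c⁻¹ * piT π w * (piT π c⁻¹)⁻¹ := by
      rw [e, piT_conj π (H.inv_mem hcH) hwH]
    have hcb : piT π c⁻¹ ∈ Cb := (hCb _).2 ⟨_, C.inv_mem hc, rfl⟩
    have hle : Subgroup.zpowers (piT π w) ≤ Wb := (Subgroup.zpowers_le).2 hτw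
    have hφ' := conjHom_mem_fH hTbCb (hle.trans hWbTb) hcb (fun x' hx' => by
      obtain ⟨k, rfl⟩ := Subgroup.mem_zpowers_iff.1 hx'
      rw [← conj_zpow, ← hτe]
      exact Tb.zpow_mem hτy k)
    have h1 := (IsNormal.stronglyClosed hN).2 _ hle _ hφ' ⟨piT π w, Subgroup.mem_zpowers _⟩
    have h2 : piT π (g * (x : Ω) * g⁻¹) ∈ Wb := by
      rw [hτe]
      exact h1
    exact (hW₁ _).2 ⟨hCH hyC, h2⟩
  refine (isNormal_iff_stronglyClosed hTp hFs).2 ⟨hSC, fun Q hQc hQr => ?_⟩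
  have hQT : Q ≤ T := hQc.1
  have hQH : Q ≤ H := hQT.trans hTH
  have : Finite Q := Finite.of_injective (Subgroup.inclusion hQH) (Subgroup.inclusion_injective hQH)
  have hRQ : R ≤ Q := IsNormal.le_of_centric_radical hTp hRF hQc hQr
  have hZQ : Z ≤ Q := fun z hz => hRQ (hZmem.1 hz).1
  obtain ⟨Q₁, hQ₁⟩ : ∃ Q₁, Q₁ = Q ⊓ C := ⟨_, rfl⟩
  have hQ₁mem : ∀ {x : Ω}, x ∈ Q₁ ↔ x ∈ Q ∧ x ∈ C := fun {x} => by
    rw [hQ₁]
    exact Subgroup.mem_inf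
  have hQ₁T₁ : Q₁ ≤ T₁ := fun x hx => hT₁mem.2 ⟨hQT (hQ₁mem.1 hx).1, (hCmem.1 (hQ₁mem.1 hx).2).2⟩
  have hQ₁H : Q₁ ≤ H := fun x hx => hQH (hQ₁mem.1 hx).1
  let Qb : Subgroup Ω' := (Q₁.subgroupOf H).map π
  have hQbmem : ∀ y, y ∈ Qb ↔ ∃ x ∈ Q₁, piT π x = y := by
    intro y
    constructor
    · rintro ⟨x, hx, rfl⟩
      exact ⟨x, Subgroup.mem_subgroupOf.1 hx, piT_of_mem π x.2⟩
    · rintro ⟨x, hx, rfl⟩
      exact ⟨⟨x, hQ₁H hx⟩, Subgroup.mem_subgroupOf.2 hx, (piT_of_mem π (hQ₁H hx)).symm⟩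
  have hQbT : Qb ≤ Tb := by
    intro y hy
    obtain ⟨x, hx, rfl⟩ := (hQbmem y).1 hy
    exact (hTb _).2 ⟨x, hQ₁T₁ hx, rfl⟩
  have hdQ₁ : ∀ d, d ∈ C → d ∈ Subgroup.normalizer (Q : Set Ω) → ∀ x ∈ Q₁, d * x * d⁻¹ ∈ Q₁ := by
    intro d hd hdN x hx
    exact hQ₁mem.2 ⟨Fusion.conj_mem_of_mem_normalizer hdN (hQ₁mem.1 hx).1, hCconj d (hCH hd) x (hQ₁mem.1 hx).2⟩
  -- the control of fusion in the quotient
  have hcontrol : ∀ d, d ∈ C → d ∈ Subgroup.normalizer (Q : Set Ω) → ∃ nb : Ω',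
      (∀ x ∈ Q₁, nb * piT π x * nb⁻¹ = piT π d * piT π x * (piT π d)⁻¹) ∧ (∀ w ∈ Wb, nb * w * nb⁻¹ ∈ Wb) := by
    intro d hd hdN
    have hdb : piT π d ∈ Cb := (hCb _).2 ⟨d, hd, rfl⟩
    have hφ := conjHom_mem_fH hTbCb hQbT hdb (fun y hy => by
      obtain ⟨x, hx, rfl⟩ := (hQbmem y).1 hy
      rw [← piT_conj π (hCH hd) (hQ₁H hx)]
      exact hQbT ((hQbmem _).2 ⟨_, hdQ₁ d hd hdN x hx, rfl⟩))
    obtain ⟨ψ, ⟨-, -, nb, -, hnbv⟩, hψ1, hψ2⟩ := hN.2 Qb _ hφ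
    refine ⟨nb, fun x hx => ?_, fun w hw => ?_⟩
    · have h1 := hψ1 ⟨piT π x, (hQbmem _).2 ⟨x, hx, rfl⟩⟩
      rw [hnbv] at h1
      exact h1
    · exact Fusion.conj_mem_of_mem_normalizer (normalizes_of_ext hψ2 hnbv) hw
  -- the group `N_C(Q)`
  obtain ⟨M, hMdef⟩ : ∃ M, M = normalizerIn C Q := ⟨_, rfl⟩
  have hMmem : ∀ {x : Ω}, x ∈ M ↔ x ∈ C ∧ x ∈ Subgroup.normalizer (Q : Set Ω) := fun {x} => by
    rw [hMdef, mem_normalizerIn]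
  have hMH : M ≤ H := fun x hx => hCH (hMmem.1 hx).1
  have hMN : M ≤ Subgroup.normalizer (Q : Set Ω) := fun x hx => (hMmem.1 hx).2
  have : Finite M := Finite.of_injective (Subgroup.inclusion hMH) (Subgroup.inclusion_injective hMH)
  let μ : ↥M →* MulAut Q := (Subgroup.normalizerMonoidHom (H := Q)).comp (Subgroup.inclusion hMN)
  have hμv : ∀ (m : ↥M) (x : Q), ((μ m x : Q) : Ω) = m * x * (m : Ω)⁻¹ := fun _ _ => rfl
  have hMQ₁ : ∀ (m : ↥M), ∀ x ∈ Q₁, (m : Ω) * x * (m : Ω)⁻¹ ∈ Q₁ := fun m x hx =>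
    hdQ₁ m (hMmem.1 m.2).1 (hMmem.1 m.2).2 x hx
  let B₂ : Subgroup ↥M :=
    { carrier := {b | ∃ e ∈ Wb, ∀ x ∈ Q₁, piT π ((b : Ω) * x * (b : Ω)⁻¹) = e * piT π x * e⁻¹}
      one_mem' := ⟨1, Wb.one_mem, fun x _ => by simp⟩
      mul_mem' := by
        rintro a b ⟨e₁, he₁, h₁⟩ ⟨e₂, he₂, h₂⟩
        refine ⟨e₁ * e₂, Wb.mul_mem he₁ he₂, fun x hx => ?_⟩
        have hbx := hMQ₁ b x hx
        have e : ((a * b : ↥M) : Ω) * x * ((a * b : ↥M) : Ω)⁻¹ = (a : Ω) * ((b : Ω) * x * (b : Ω)⁻¹) * (a : Ω)⁻¹ := by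
          rw [Subgroup.coe_mul]
          group
        rw [e, h₁ _ hbx, h₂ x hx]
        group
      inv_mem' := by
        rintro b ⟨e, he, h⟩
        refine ⟨e⁻¹, Wb.inv_mem he, fun x hx => ?_⟩
        have hbx := hMQ₁ b⁻¹ x hx
        have h1 := h _ hbx
        have e' : (b : Ω) * (((b⁻¹ : ↥M) : Ω) * x * ((b⁻¹ : ↥M) : Ω)⁻¹) * (b : Ω)⁻¹ = x := by
          rw [Subgroup.coe_inv]
          group
        rw [e'] at h1
        rw [h1]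
        group }
  have hB₂mem : ∀ {b : ↥M}, b ∈ B₂ ↔ ∃ e ∈ Wb, ∀ x ∈ Q₁, piT π ((b : Ω) * x * (b : Ω)⁻¹) = e * piT π x * e⁻¹ := Iff.rfl
  have hB₂n : B₂.Normal := by
    refine ⟨fun b hb d => ?_⟩
    obtain ⟨e, he, h⟩ := hB₂mem.1 hb
    obtain ⟨nb, h1, h2⟩ := hcontrol d (hMmem.1 d.2).1 (hMmem.1 d.2).2
    refine hB₂mem.2 ⟨nb * e * nb⁻¹, h2 e he, fun x hx => ?_⟩
    have hx₂ := hMQ₁ d⁻¹ x hx
    have hx₃ := hMQ₁ b _ hx₂
    rw [Subgroup.coe_inv, inv_inv] at hx₂ hx₃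
    have hdH : (d : Ω) ∈ H := hMH d.2
    have e1 : ((d * b * d⁻¹ : ↥M) : Ω) * x * ((d * b * d⁻¹ : ↥M) : Ω)⁻¹ =
        (d : Ω) * ((b : Ω) * ((d : Ω)⁻¹ * x * d) * (b : Ω)⁻¹) * (d : Ω)⁻¹ := by
      simp only [Subgroup.coe_mul, Subgroup.coe_inv]
      group
    have e2 := h _ (by
      have := hMQ₁ d⁻¹ x hx
      rwa [Subgroup.coe_inv, inv_inv] at this)
    have e3 : piT π x = nb * piT π ((d : Ω)⁻¹ * x * d) * nb⁻¹ := by
      rw [h1 _ hx₂, ← piT_conj π hdH (hQ₁H hx₂)]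
      congr 1
      group
    rw [e1, piT_conj π hdH (hQ₁H hx₃), ← h1 _ hx₃, e2, e3]
    group
  -- the `p`-elements
  have hpow : ∀ b ∈ B₂, ∃ K : ℕ, μ (b ^ p ^ K) = 1 := by
    intro b hb
    obtain ⟨e, he, h⟩ := hB₂mem.1 hb
    obtain ⟨k₀, hk₀⟩ := hWbp ⟨e, he⟩
    have he₁ : e ^ p ^ k₀ = 1 := congrArg Subtype.val hk₀
    obtain ⟨c, m', hm', hord⟩ := Nat.exists_eq_pow_mul_and_not_dvd (orderOf_pos b).ne' p (Fact.out : p.Prime).ne_one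
    have hrel : ∀ n : ℕ, ∀ x ∈ Q₁, piT π (((b ^ n : ↥M) : Ω) * x * ((b ^ n : ↥M) : Ω)⁻¹) = e ^ n * piT π x * (e ^ n)⁻¹ := by
      intro n
      induction n with
      | zero =>
        intro x _
        simp
      | succ n ih =>
        intro x hx
        have e1 : ((b ^ (n + 1) : ↥M) : Ω) * x * ((b ^ (n + 1) : ↥M) : Ω)⁻¹ =
            ((b ^ n : ↥M) : Ω) * ((b : Ω) * x * (b : Ω)⁻¹) * ((b ^ n : ↥M) : Ω)⁻¹ := by
          rw [pow_succ, Subgroup.coe_mul]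
          group
        rw [e1, ih _ (hMQ₁ b x hx), h x hx, pow_succ]
        group
    have he₂ : e ^ p ^ (c + k₀) = 1 := by
      rw [pow_add, mul_comm, pow_mul, he₁, one_pow]
    refine ⟨c + k₀, ?_⟩
    obtain ⟨b₁, hb₁⟩ : ∃ b₁, b₁ = b ^ p ^ (c + k₀) := ⟨_, rfl⟩
    rw [← hb₁]
    have hσ : (μ b₁) ^ m' = 1 := by
      rw [← map_pow, hb₁, ← pow_mul]
      have h0 : p ^ (c + k₀) * m' = (p ^ c * m') * p ^ k₀ := by
        rw [pow_add]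
        ring
      rw [h0, ← hord, pow_mul, pow_orderOf_eq_one, one_pow, map_one]
    have hcop : m'.Coprime p := ((Nat.Prime.coprime_iff_not_dvd Fact.out).mpr hm').symm
    have hX : IsPGroup p ↥Q := hTp.to_le hQT
    have hb₁C : (b₁ : Ω) ∈ C := (hMmem.1 b₁.2).1
    have hb₁H : (b₁ : Ω) ∈ H := hMH b₁.2
    have hrel' : ∀ x ∈ Q₁, piT π ((b₁ : Ω) * x * (b₁ : Ω)⁻¹) = piT π x := by
      intro x hx
      have h1 := hrel (p ^ (c + k₀)) x hx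
      rw [← hb₁, he₂] at h1
      rw [h1]
      group
    have h1 : ∀ z : Q, (z : Ω) ∈ Z → μ b₁ z = z := by
      intro z hz
      apply Subtype.ext
      rw [hμv]
      rw [← (hCmem.1 hb₁C).2 z (hZmem.1 hz).1]
      group
    have h2 : ∀ x : Q, (x : Ω) ∈ C → μ b₁ x = x := by
      intro x hxC
      have hxQ₁ : (x : Ω) ∈ Q₁ := hQ₁mem.2 ⟨x.2, hxC⟩
      have hxH := hQ₁H hxQ₁
      refine Central.fix_of_coprime hX (μ b₁) hσ hcop (k := μ b₁ x * x⁻¹) (h1 _ ?_) rfl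
      have e1 : ((μ b₁ x * x⁻¹ : Q) : Ω) = (b₁ : Ω) * x * (b₁ : Ω)⁻¹ * (x : Ω)⁻¹ := rfl
      rw [e1, ← hZ1 (H.mul_mem (H.mul_mem (H.mul_mem hb₁H hxH) (H.inv_mem hb₁H)) (H.inv_mem hxH)),
        piT_mul π (H.mul_mem (H.mul_mem hb₁H hxH) (H.inv_mem hb₁H)) (H.inv_mem hxH), hrel' _ hxQ₁, piT_inv π hxH, mul_inv_cancel]
    have h3 : ∀ x : Q, μ b₁ x = x := by
      intro x
      have hxH := hQH x.2
      refine Central.fix_of_coprime hX (μ b₁) hσ hcop (k := μ b₁ x * x⁻¹) (h2 _ ?_) rfl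
      have e1 : ((μ b₁ x * x⁻¹ : Q) : Ω) = (b₁ : Ω) * ((x : Ω) * (b₁ : Ω)⁻¹ * (x : Ω)⁻¹) := by
        show (b₁ : Ω) * x * (b₁ : Ω)⁻¹ * (x : Ω)⁻¹ = _
        group
      rw [e1]
      exact C.mul_mem hb₁C (hCconj _ hxH _ (C.inv_mem hb₁C))
    ext x
    exact congrArg Subtype.val (h3 x)
  -- the core
  obtain ⟨A₁, hA₁⟩ : ∃ A₁, A₁ = μ.range := ⟨_, rfl⟩
  subst hA₁
  haveI : Finite μ.range := Finite.of_surjective _ μ.rangeRestrict_surjective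
  have h𝔹n : (B₂.map μ.rangeRestrict).Normal := hB₂n.map _ μ.rangeRestrict_surjective
  have h𝔹p : IsPGroup p (B₂.map μ.rangeRestrict) := by
    rintro ⟨_, b, hb, rfl⟩
    obtain ⟨K, hK⟩ := hpow b hb
    refine ⟨K, Subtype.ext (Subtype.ext ?_)⟩
    show (μ b) ^ p ^ K = 1
    rw [← map_pow, hK]
  have h𝔹 : B₂.map μ.rangeRestrict ≤ pCore p μ.range := Lib.Core.le_pCore h𝔹n h𝔹p
  have hauto := autGroup_fH hTH hQT
  refine le_of_normal_pSubgroup hTp (StronglyClosed.le_normalizer hSC) (hW₁T₁.trans hT₁T) hQc hQr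
    (D := (pCore p μ.range).map μ.range.subtype) ?_ ?_ ?_ ?_
  · rintro _ ⟨⟨_, m, rfl⟩, -, rfl⟩
    rw [hauto]
    exact conjAut_mem (hMH m.2) (hMN m.2)
  · exact (Lib.Core.pCore_isPGroup (p := p) (G := μ.range)).map _
  · intro α hα δ hδ
    refine pCore_conj_mem μ.range α ?_ hδ
    rw [hauto] at hα
    obtain ⟨g, hg, hv⟩ := mem_autInducedBy_iff.1 hα
    have hgN := mem_normalizer_of_conj hv
    have hαe : α = conjAut Q g hgN := by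
      ext x
      exact hv x
    rintro _ ⟨m, rfl⟩
    have hmem : g * (m : Ω) * g⁻¹ ∈ M := hMmem.2 ⟨hCconj g hg _ (hMmem.1 m.2).1,
      Subgroup.mul_mem _ (Subgroup.mul_mem _ hgN (hMN m.2)) (Subgroup.inv_mem _ hgN)⟩
    refine ⟨⟨_, hmem⟩, ?_⟩
    rw [hαe]
    ext x
    show g * (m : Ω) * g⁻¹ * (x : Ω) * (g * (m : Ω) * g⁻¹)⁻¹ = ((conjAut Q g hgN * μ m * (conjAut Q g hgN)⁻¹) x : Q)
    have e : conjAut Q g hgN * μ m * (conjAut Q g hgN)⁻¹ = (Subgroup.normalizerMonoidHom (H := Q))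
        (⟨g, hgN⟩ * ⟨m, hMN m.2⟩ * ⟨g, hgN⟩⁻¹) := by
      rw [map_mul, map_mul, map_inv]
      rfl
    rw [e]
    rfl
  · intro y hy
    obtain ⟨hyW, hyN⟩ := mem_normalizerIn.1 hy
    have hyC := hT₁C (hW₁T₁ hyW)
    have hyM : y ∈ M := hMmem.2 ⟨hyC, hyN⟩
    have hyB : (⟨y, hyM⟩ : ↥M) ∈ B₂ := hB₂mem.2 ⟨piT π y, ((hW₁ y).1 hyW).2, fun x hx =>
      piT_conj π (hCH hyC) (hQ₁H hx)⟩
    exact ⟨μ.rangeRestrict ⟨y, hyM⟩, h𝔹 ⟨_, hyB, rfl⟩, rfl⟩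

end lift

end Cfsg.Agent.Lib.PStableQ.FusionMain
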