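import Cfsg.Agent.Lib.PStableQ.FusionB
import Mathlib

/-! # Fusion systems of `p`-stable groups: constrained, with `Z(J(T))` normal, for `p` odd -/

set_option autoImplicit false
set_option linter.style.haveILetI false

namespace Cfsg.Agent.Lib.PStableQ.FusionMain

open Cfsg Cfsg.FusionSystem Cfsg.Agent.Lib.Fusion Cfsg.Agent.Lib.Techniques Cfsg.Agent.Lib.PStableQ

universe u

variable {p : ℕ} [hfp : Fact p.Prime]

theorem mem_map_piT {Ω Ω' : Type*} [Group Ω] [Group Ω'] {H A : Subgroup Ω} (hA : A ≤ H) (π : ↥H →* Ω') (y : Ω') :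
    y ∈ (A.subgroupOf H).map π ↔ ∃ a ∈ A, piT π a = y := by
  constructor
  · rintro ⟨x, hx, rfl⟩
    exact ⟨x, Subgroup.mem_subgroupOf.1 hx, piT_of_mem π x.2⟩
  · rintro ⟨x, hx, rfl⟩
    exact ⟨⟨x, hA hx⟩, Subgroup.mem_subgroupOf.2 hx, (piT_of_mem π (hA hx)).symm⟩

section model

variable {Ω : Type u} [Group Ω] {H T R : Subgroup Ω}

/-- The constrained case: `Z(J(T))` is normal by Glauberman's theorem in a model. -/
theorem isNormal_of_centric (hp : p ≠ 2) (hTH : T ≤ H) [Finite H] (hT : IsSylowIn p T H) (hst : IsNormalizerPStable p ↥H)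
    (hRH : H ≤ Subgroup.normalizer (R : Set Ω)) (hRF : (fusionSystemOfSubgroup H T hTH).IsNormal R)
    (hCR : centralizerIn T R ≤ R) : (fusionSystemOfSubgroup H T hTH).IsNormal (funW Fusion.zjFun.{u} T) := by
  have : Finite T := Finite.of_injective (Subgroup.inclusion hTH) (Subgroup.inclusion_injective hTH)
  have hFs := isSaturated_fH hTH hT
  have hTp : IsPGroup p T := hT.isPGroup hTH
  have hRT := hRF.1
  let κ : T →* ↥H := Subgroup.inclusion hTH
  have hreal : (fusionSystemOfSubgroup H T hTH).IsRealizedBy κ := by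
    refine ⟨Subgroup.inclusion_injective hTH, fun P hP φ hφ => ?_⟩
    constructor
    · rintro ⟨-, -, g, hg, hv⟩
      exact ⟨⟨g, hg⟩, fun x => Subtype.ext (hv x)⟩
    · rintro ⟨g, hv⟩
      exact ⟨hP, hφ, g, g.2, fun x => congrArg Subtype.val (hv x)⟩
  have hTs : ∃ T' : Sylow p ↥H, (T' : Subgroup ↥H) = κ.range := by
    obtain ⟨T', hT'⟩ := hT
    refine ⟨T', hT'.trans ?_⟩
    ext y
    rw [Subgroup.mem_subgroupOf, MonoidHom.mem_range]
    constructor
    · intro hy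
      exact ⟨⟨y, hy⟩, rfl⟩
    · rintro ⟨t, rfl⟩
      exact t.2
  have hVn : ((R.subgroupOf T).map κ).Normal := by
    refine ⟨?_⟩
    rintro _ ⟨t, ht, rfl⟩ g
    have htR : (t : Ω) ∈ R := Subgroup.mem_subgroupOf.1 ht
    have h1 : (g : Ω) * t * (g : Ω)⁻¹ ∈ R := Fusion.conj_mem_of_mem_normalizer (hRH g.2) htR
    exact ⟨⟨_, hRT h1⟩, Subgroup.mem_subgroupOf.2 h1, Subtype.ext rfl⟩
  obtain ⟨K, hKn, hKco, hm⟩ := QdCentric.exists_model_quot hTp hFs hRF hCR hreal hTs hVn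
  have hstL : IsNormalizerPStable p (↥H ⧸ K) :=
    stable_quotient_pprime hst (QuotientGroup.mk' K) (QuotientGroup.mk'_surjective K) (by
      rw [QuotientGroup.ker_mk']
      exact hKco)
  have hreal' := hm.2.1
  obtain ⟨P₀, hP₀⟩ := hm.2.2.1
  have hV := zj_normal_of_stable hp hstL hm.2.2.2 P₀
  rw [← funW_zjFun] at hV
  have hVle : funW Fusion.zjFun.{u} (P₀ : Subgroup (↥H ⧸ K)) ≤ ((QuotientGroup.mk' K).comp κ).range :=
    hP₀ ▸ funW_le _ _
  have hN := isNormal_preimage hreal' hV hVle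
  have heq : preimageAlong ((QuotientGroup.mk' K).comp κ) (funW Fusion.zjFun.{u} (P₀ : Subgroup (↥H ⧸ K))) = funW Fusion.zjFun.{u} T := by
    rw [← funW_model (W := Fusion.zjFun.{u}) (fun Q R _ _ _ h φ => zjFun_inv Q R h φ) hTp hreal'.1 hP₀]
    ext x
    rw [mem_preimageAlong]
    constructor
    · rintro ⟨hxS, y, hy, he⟩
      have h1 : y = ⟨x, hxS⟩ := hreal'.1 he
      rw [h1] at hy
      exact Subgroup.mem_subgroupOf.1 hy
    · intro hx
      have hxS : x ∈ T := funW_le _ T hx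
      exact ⟨hxS, ⟨x, hxS⟩, Subgroup.mem_subgroupOf.2 hx, rfl⟩
  rwa [heq] at hN

end model

section central

variable {Ω : Type u} [Group Ω] {H T R : Subgroup Ω}

/-- The non-centric case is impossible. -/
theorem false_of_not_centric (hp : p ≠ 2) (hTH : T ≤ H) [Finite H] (hT : IsSylowIn p T H) (hst : IsNormalizerPStable p ↥H)
    (hRH : H ≤ Subgroup.normalizer (R : Set Ω)) (hRF : (fusionSystemOfSubgroup H T hTH).IsNormal R)
    (hmax : ∀ U, (fusionSystemOfSubgroup H T hTH).IsNormal U → U ≤ R) (hRne : R ≠ ⊥) (hCR : ¬ centralizerIn T R ≤ R)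
    (hIH : ∀ (Ω' : Type u) [Group Ω'] (H' T' : Subgroup Ω') (hT' : T' ≤ H') [Finite H'], IsSylowIn p T' H' → IsNormalizerPStable p ↥H' →
      Nat.card H' < Nat.card H → (fusionSystemOfSubgroup H' T' hT').IsNormal (funW Fusion.zjFun.{u} T')) : False := by
  classical
  have : Finite T := Finite.of_injective (Subgroup.inclusion hTH) (Subgroup.inclusion_injective hTH)
  have hTp : IsPGroup p T := hT.isPGroup hTH
  have hRT := hRF.1
  have hRp : IsPGroup p R := hTp.to_le hRT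
  have : Finite R := Finite.of_injective (Subgroup.inclusion hRT) (Subgroup.inclusion_injective hRT)
  obtain ⟨Z, hZdef⟩ : ∃ Z, Z = centralizerIn R R := ⟨_, rfl⟩
  have hZmem : ∀ {c : Ω}, c ∈ Z ↔ c ∈ R ∧ ∀ x ∈ R, x * c = c * x := fun {c} => by
    rw [hZdef, mem_centralizerIn]
  have hZR : Z ≤ R := fun z hz => (hZmem.1 hz).1
  have hZn : (Z.subgroupOf H).Normal := by
    refine ⟨fun z hz g => ?_⟩
    have hz' := hZmem.1 (Subgroup.mem_subgroupOf.1 hz)
    refine Subgroup.mem_subgroupOf.2 (hZmem.2 ⟨Fusion.conj_mem_of_mem_normalizer (hRH g.2) hz'.1, fun x hx => ?_⟩)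
    have hy : (g : Ω)⁻¹ * x * g ∈ R := by
      have := Fusion.conj_mem_of_mem_normalizer (Subgroup.inv_mem _ (hRH g.2)) hx
      simpa using this
    have h := hz'.2 _ hy
    show x * ((g : Ω) * z * (g : Ω)⁻¹) = (g : Ω) * z * (g : Ω)⁻¹ * x
    calc x * ((g : Ω) * z * (g : Ω)⁻¹) = g * (((g : Ω)⁻¹ * x * g) * z) * (g : Ω)⁻¹ := by group
      _ = g * ((z : Ω) * ((g : Ω)⁻¹ * x * g)) * (g : Ω)⁻¹ := by rw [h]
      _ = _ := by group
  let π : ↥H →* (↥H ⧸ Z.subgroupOf H) := QuotientGroup.mk' _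
  have hker : ∀ x : ↥H, π x = 1 ↔ (x : Ω) ∈ Z := fun x => by
    show ((x : ↥H) : ↥H ⧸ Z.subgroupOf H) = 1 ↔ _
    rw [QuotientGroup.eq_one_iff, Subgroup.mem_subgroupOf]
  have hZ1 : ∀ {x : Ω}, x ∈ H → (piT π x = 1 ↔ x ∈ Z) := fun {x} hx => by
    rw [piT_of_mem π hx]
    exact hker ⟨x, hx⟩
  obtain ⟨C, hCdef⟩ : ∃ C, C = centralizerIn H R := ⟨_, rfl⟩
  obtain ⟨T₁, hT₁def⟩ : ∃ T₁, T₁ = centralizerIn T R := ⟨_, rfl⟩
  have hCmem : ∀ {c : Ω}, c ∈ C ↔ c ∈ H ∧ ∀ x ∈ R, x * c = c * x := fun {c} => by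
    rw [hCdef, mem_centralizerIn]
  have hT₁mem : ∀ {c : Ω}, c ∈ T₁ ↔ c ∈ T ∧ ∀ x ∈ R, x * c = c * x := fun {c} => by
    rw [hT₁def, mem_centralizerIn]
  have hCH : C ≤ H := fun c hc => (hCmem.1 hc).1
  have hT₁C : T₁ ≤ C := fun c hc => hCmem.2 ⟨hTH (hT₁mem.1 hc).1, (hT₁mem.1 hc).2⟩
  have hT₁T : T₁ ≤ T := fun c hc => (hT₁mem.1 hc).1
  have hCn : (C.subgroupOf H).Normal := by
    refine ⟨fun c hc g => ?_⟩
    obtain ⟨hcH, hcc⟩ := hCmem.1 (Subgroup.mem_subgroupOf.1 hc)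
    refine Subgroup.mem_subgroupOf.2 (hCmem.2 ⟨H.mul_mem (H.mul_mem g.2 hcH) (H.inv_mem g.2), fun x hx => ?_⟩)
    have hy : (g : Ω)⁻¹ * x * g ∈ R := by
      have := Fusion.conj_mem_of_mem_normalizer (Subgroup.inv_mem _ (hRH g.2)) hx
      simpa using this
    have h := hcc _ hy
    show x * ((g : Ω) * c * (g : Ω)⁻¹) = (g : Ω) * c * (g : Ω)⁻¹ * x
    calc x * ((g : Ω) * c * (g : Ω)⁻¹) = g * (((g : Ω)⁻¹ * x * g) * c) * (g : Ω)⁻¹ := by group
      _ = g * ((c : Ω) * ((g : Ω)⁻¹ * x * g)) * (g : Ω)⁻¹ := by rw [h]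
      _ = _ := by group
  have hT₁ : IsSylowIn p T₁ C := by
    have h1 := hT.inf_normal hTH hCH hCn
    have e : T ⊓ C = T₁ := by
      ext x
      rw [Subgroup.mem_inf, hCmem, hT₁mem]
      exact ⟨fun h => ⟨h.1, h.2.2⟩, fun h => ⟨h.1, hTH h.1, h.2⟩⟩
    rwa [e] at h1
  have hT₁p : IsPGroup p T₁ := hTp.to_le hT₁T
  have hZT₁ : Z ≤ T₁ := fun z hz => hT₁mem.2 ⟨hRT (hZmem.1 hz).1, (hZmem.1 hz).2⟩
  have : Finite C := Finite.of_injective (Subgroup.inclusion hCH) (Subgroup.inclusion_injective hCH)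
  have : Finite T₁ := Finite.of_injective (Subgroup.inclusion hT₁T) (Subgroup.inclusion_injective hT₁T)
  have hTH₁ : T₁ ≤ H := hT₁C.trans hCH
  obtain ⟨Cb, hCbdef⟩ : ∃ Cb, Cb = (C.subgroupOf H).map π := ⟨_, rfl⟩
  obtain ⟨Tb, hTbdef⟩ : ∃ Tb, Tb = (T₁.subgroupOf H).map π := ⟨_, rfl⟩
  have hCb : ∀ y, y ∈ Cb ↔ ∃ c ∈ centralizerIn H R, piT π c = y := fun y => by
    rw [← hCdef, hCbdef]
    exact mem_map_piT hCH π y
  have hTb : ∀ y, y ∈ Tb ↔ ∃ t ∈ centralizerIn T R, piT π t = y := fun y => by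
    rw [← hT₁def, hTbdef]
    exact mem_map_piT hTH₁ π y
  have hTbCb : Tb ≤ Cb := by
    rw [hCbdef, hTbdef]
    exact Subgroup.map_mono (Subgroup.comap_mono hT₁C)
  have hTbp : IsPGroup p Tb := by
    rintro ⟨y, hy⟩
    obtain ⟨t, ht, rfl⟩ := (hTb y).1 hy
    rw [← hT₁def] at ht
    obtain ⟨k, hk⟩ := hT₁p ⟨t, ht⟩
    refine ⟨k, Subtype.ext ?_⟩
    have h1 : t ^ p ^ k = 1 := congrArg Subtype.val hk
    show (piT π t) ^ p ^ k = 1
    rw [← piT_pow π (hTH₁ ht), h1, piT_one]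
  have hSyl : IsSylowIn p Tb Cb := by
    refine isSylowIn_of_card_ge hTbCb hTbp fun W hWC hWp hTW => ?_
    obtain ⟨Y, hYdef⟩ : ∃ Y : Subgroup Ω, Y = (W.comap π).map H.subtype := ⟨_, rfl⟩
    have hYmem : ∀ {x : Ω}, x ∈ Y ↔ x ∈ H ∧ piT π x ∈ W := fun {x} => by
      rw [hYdef]
      constructor
      · rintro ⟨y, hy, rfl⟩
        refine ⟨y.2, ?_⟩
        show piT π (y : Ω) ∈ W
        rw [piT_of_mem π y.2]
        exact hy
      · rintro ⟨hx, hxW⟩
        rw [piT_of_mem π hx] at hxW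
        exact ⟨⟨x, hx⟩, hxW, rfl⟩
    have hYC : Y ≤ C := by
      intro x hx
      obtain ⟨hxH, hxW⟩ := hYmem.1 hx
      obtain ⟨c, hc, hce⟩ := (hCb _).1 (hWC hxW)
      rw [← hCdef] at hc
      have hcH := hCH hc
      have h1 : piT π (c⁻¹ * x) = 1 := by
        rw [piT_mul π (H.inv_mem hcH) hxH, piT_inv π hcH, hce, inv_mul_cancel]
      have h2 := hT₁C (hZT₁ ((hZ1 (H.mul_mem (H.inv_mem hcH) hxH)).1 h1))
      have h3 := C.mul_mem hc h2
      rwa [mul_inv_cancel_left] at h3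
    have hYp : IsPGroup p Y := by
      rintro ⟨x, hx⟩
      obtain ⟨hxH, hxW⟩ := hYmem.1 hx
      obtain ⟨k, hk⟩ := hWp ⟨_, hxW⟩
      have h1 : piT π (x ^ p ^ k) = 1 := by
        rw [piT_pow π hxH]
        exact congrArg Subtype.val hk
      have h2 := (hZ1 (H.pow_mem hxH _)).1 h1
      obtain ⟨m, hm⟩ := hRp ⟨_, hZR h2⟩
      refine ⟨k + m, Subtype.ext ?_⟩
      have h3 : (x ^ p ^ k) ^ p ^ m = 1 := congrArg Subtype.val hm
      rw [pow_add, pow_mul]
      exact h3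
    have hT₁Y : T₁ ≤ Y := fun t ht => hYmem.2 ⟨hTH₁ ht, hTW ((hTb _).2 ⟨t, hT₁def ▸ ht, rfl⟩)⟩
    have hcard := hT₁.card_le hT₁C hYp hYC
    have : Finite Y := Finite.of_injective (Subgroup.inclusion hYC) (Subgroup.inclusion_injective hYC)
    have hYe : T₁ = Y := Subgroup.eq_of_le_of_card_ge hT₁Y hcard
    have hle : W ≤ Tb := by
      intro y hy
      obtain ⟨c, hc, rfl⟩ := (hCb _).1 (hWC hy)
      rw [← hCdef] at hc
      have hcY : c ∈ Y := hYmem.2 ⟨hCH hc, hy⟩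
      rw [← hYe] at hcY
      exact (hTb _).2 ⟨c, hT₁def ▸ hcY, rfl⟩
    exact Nat.card_le_card_of_injective (Subgroup.inclusion hle) (Subgroup.inclusion_injective hle)
  have hstb : IsNormalizerPStable p ↥Cb := by
    rw [hCbdef]
    refine stable_central_image hp (stable_subgroup hst _) (π.subgroupMap _) (π.subgroupMap_surjective _) ?_ ?_
    · intro x hx
      have h1 : π (x : ↥H) = 1 := congrArg Subtype.val (MonoidHom.mem_ker.1 hx)
      have h2 := (hker _).1 h1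
      rw [Subgroup.mem_center_iff]
      intro g
      apply Subtype.ext
      apply Subtype.ext
      exact ((hCmem.1 (Subgroup.mem_subgroupOf.1 g.2)).2 _ (hZR h2)).symm
    · rintro ⟨x, hx⟩
      have h1 : π (x : ↥H) = 1 := congrArg Subtype.val (MonoidHom.mem_ker.1 hx)
      have h2 := (hker _).1 h1
      obtain ⟨k, hk⟩ := hRp ⟨_, hZR h2⟩
      have h3 : (((x : ↥(C.subgroupOf H)) : ↥H) : Ω) ^ p ^ k = 1 := congrArg Subtype.val hk
      refine ⟨k, Subtype.ext (Subtype.ext (Subtype.ext ?_))⟩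
      simpa using h3
  have hcard : Nat.card Cb < Nat.card H := by
    have hZne : Z ≠ ⊥ := by
      haveI : Nontrivial R := (Subgroup.nontrivial_iff_ne_bot _).2 hRne
      have hc : Nontrivial (Subgroup.center R) := hRp.center_nontrivial
      obtain ⟨z, hz⟩ := exists_ne (1 : Subgroup.center R)
      intro hb
      apply hz
      have h1 : ((z : R) : Ω) ∈ Z := hZmem.2 ⟨(z : R).2, fun x hx => by
        have := (Subgroup.mem_center_iff.1 z.2) ⟨x, hx⟩
        exact (congrArg Subtype.val this)⟩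
      rw [hb] at h1
      exact Subtype.ext (Subtype.ext (Subgroup.mem_bot.1 h1))
    have hZ'ne : Z.subgroupOf H ≠ ⊥ := by
      intro hb
      apply hZne
      rw [eq_bot_iff]
      intro z hz
      have hzH := hRT.trans hTH (hZR hz)
      have h1 : (⟨z, hzH⟩ : ↥H) ∈ Z.subgroupOf H := Subgroup.mem_subgroupOf.2 hz
      rw [hb] at h1
      exact Subgroup.mem_bot.2 (congrArg Subtype.val (Subgroup.mem_bot.1 h1))
    have hZ'2 : 1 < Nat.card (Z.subgroupOf H) := by
      haveI : Nontrivial (Z.subgroupOf H) := (Subgroup.nontrivial_iff_ne_bot _).2 hZ'ne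
      exact Finite.one_lt_card
    have h2 : Nat.card H = Nat.card (↥H ⧸ Z.subgroupOf H) * Nat.card (Z.subgroupOf H) :=
      Subgroup.card_eq_card_quotient_mul_card_subgroup _
    have h3 : Nat.card Cb ≤ Nat.card (↥H ⧸ Z.subgroupOf H) := Subgroup.card_le_card_group Cb
    have h4 : 0 < Nat.card (↥H ⧸ Z.subgroupOf H) := Nat.card_pos
    nlinarith
  have hN := hIH _ Cb Tb hTbCb hSyl hstb hcard
  obtain ⟨W₁, hW₁def⟩ : ∃ W₁ : Subgroup Ω, W₁ = ((funW Fusion.zjFun.{u} Tb).comap π).map H.subtype := ⟨_, rfl⟩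
  have hW₁ : ∀ x, x ∈ W₁ ↔ x ∈ H ∧ piT π x ∈ funW Fusion.zjFun.{u} Tb := by
    intro x
    rw [hW₁def]
    constructor
    · rintro ⟨y, hy, rfl⟩
      refine ⟨y.2, ?_⟩
      show piT π (y : Ω) ∈ funW Fusion.zjFun.{u} Tb
      rw [piT_of_mem π y.2]
      exact hy
    · rintro ⟨hx, hxW⟩
      rw [piT_of_mem π hx] at hxW
      exact ⟨⟨x, hx⟩, hxW, rfl⟩
  have hNW := isNormal_pre hTH hT hRT hRH hRF π (hZdef ▸ hker) hCb hTb hTbCb hN hW₁
  have hle := hmax _ hNW
  have hWb : funW Fusion.zjFun.{u} Tb = ⊥ := by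
    rw [eq_bot_iff]
    intro y hy
    obtain ⟨t, ht, rfl⟩ := (hTb y).1 (funW_le _ Tb hy)
    rw [← hT₁def] at ht
    have htH := hTH₁ ht
    have htW : t ∈ W₁ := (hW₁ t).2 ⟨htH, hy⟩
    exact Subgroup.mem_bot.2 ((hZ1 htH).2 (hZmem.2 ⟨hle htW, (hT₁mem.1 ht).2⟩))
  have hTbne : Tb ≠ ⊥ := by
    intro hb
    apply hCR
    intro t ht
    have ht' : t ∈ T₁ := hT₁def ▸ ht
    have h1 : piT π t ∈ Tb := (hTb _).2 ⟨t, ht, rfl⟩
    rw [hb] at h1
    exact hZR ((hZ1 (hTH₁ ht')).1 (Subgroup.mem_bot.1 h1))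
  exact funW_ne_bot (W := Fusion.zjFun.{u}) (fun Q _ _ h1 h2 => zjFun_ne_bot Q h1 h2) hTbp hTbne hWb

end central

section main

/-- **The main theorem.** The fusion system of a `p`-stable group (`p` odd) is constrained, with `Z(J(T))` normal. -/
theorem stable_main (hp : p ≠ 2) : ∀ (n : ℕ) {Ω : Type u} [Group Ω] (H T : Subgroup Ω) (hTH : T ≤ H) [Finite H],
    IsSylowIn p T H → IsNormalizerPStable p ↥H → Nat.card H = n →
    (fusionSystemOfSubgroup H T hTH).IsConstrained p ∧ (fusionSystemOfSubgroup H T hTH).IsNormal (funW Fusion.zjFun.{u} T) := by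
  intro n
  induction n using Nat.strong_induction_on with
  | _ n ih =>
  intro Ω _ H T hTH _ hT hst hn
  have : Finite T := Finite.of_injective (Subgroup.inclusion hTH) (Subgroup.inclusion_injective hTH)
  have hFs := isSaturated_fH hTH hT
  have hTp : IsPGroup p T := hT.isPGroup hTH
  have hcoreN : (fusionSystemOfSubgroup H T hTH).IsNormal (fusionSystemOfSubgroup H T hTH).core := isNormal_core
  have hcoreT := hcoreN.1
  obtain ⟨-, hrec⟩ := IsNormal.fullyAutomized_receptive hFs hcoreN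
  by_cases hT0 : T = ⊥
  · subst hT0
    refine ⟨⟨hFs, _, hcoreN, isCentric_of_receptive hrec fun g hg => ?_⟩, ?_⟩
    · have h1 := centralizerIn_le _ hg
      rw [Subgroup.mem_bot] at h1
      rw [h1]
      exact Subgroup.one_mem _
    · have h1 : funW Fusion.zjFun.{u} (⊥ : Subgroup Ω) = ⊥ := le_bot_iff.1 (funW_le _ _)
      rw [h1]
      exact isNormal_bot
  have hW1 : ∀ (Q : Type u) [Group Q] [Finite Q], IsPGroup p Q → Nontrivial Q → Fusion.zjFun.{u} Q ≠ ⊥ :=
    fun Q _ _ h1 h2 => zjFun_ne_bot Q h1 h2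
  have hW2 : ∀ (Q R : Type u) [Group Q] [Group R] [Finite Q], IsPGroup p Q → ∀ φ : Q ≃* R,
      (Fusion.zjFun.{u} Q).map φ.toMonoidHom = Fusion.zjFun.{u} R := fun Q R _ _ _ h φ => zjFun_inv Q R h φ
  have hWne := funW_ne_bot (W := Fusion.zjFun.{u}) hW1 hTp hT0
  -- the core is not trivial
  have hRne : (fusionSystemOfSubgroup H T hTH).core ≠ ⊥ := by
    intro hbot
    have hX := isNormal_funW_chain' (F := fusionSystemOfSubgroup H T hTH) hW1 hW2 hTp hFs hT0 (fun {U₀} hfn hU₀ne D hD => by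
      have hU₀T := hfn.1
      have : Finite U₀ := Finite.of_injective (Subgroup.inclusion hU₀T) (Subgroup.inclusion_injective hU₀T)
      rw [normalizerSystem_eq hTH hU₀T hD]
      have hH₂le : normalizerIn H U₀ ≤ H := normalizerIn_le U₀
      have : Finite (normalizerIn H U₀) := Finite.of_injective (Subgroup.inclusion hH₂le) (Subgroup.inclusion_injective hH₂le)
      have hne : normalizerIn H U₀ ≠ H := by
        intro he
        have h1 : H ≤ Subgroup.normalizer (U₀ : Set Ω) := fun g hg => (mem_normalizerIn.1 (he.symm ▸ hg : g ∈ normalizerIn H U₀)).2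
        have h2 := isNormal_of_le_normalizer hTH hU₀T h1
        have h3 : U₀ ≤ (fusionSystemOfSubgroup H T hTH).core := le_sSup h2
        rw [hbot] at h3
        exact hU₀ne (le_bot_iff.1 h3)
      have hcard : Nat.card (normalizerIn H U₀) < n := hn ▸ Fusion.card_lt_of_lt (S := H) le_rfl (lt_of_le_of_ne hH₂le hne)
      have hT₂ := (isFullyNormalized_fH_iff hTH hT hU₀T).1 hfn
      exact (ih _ hcard (normalizerIn H U₀) (normalizerIn T U₀) (inf_le_inf_right _ hTH) hT₂ (stable_le hst hH₂le) rfl).2)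
    have hle : funW Fusion.zjFun.{u} T ≤ (fusionSystemOfSubgroup H T hTH).core := le_sSup hX
    rw [hbot] at hle
    exact hWne (le_bot_iff.1 hle)
  by_cases hRN : H ≤ Subgroup.normalizer (((fusionSystemOfSubgroup H T hTH).core : Subgroup Ω) : Set Ω)
  · by_cases hCR : centralizerIn T (fusionSystemOfSubgroup H T hTH).core ≤ (fusionSystemOfSubgroup H T hTH).core
    · exact ⟨⟨hFs, _, hcoreN, isCentric_of_receptive hrec hCR⟩, isNormal_of_centric hp hTH hT hst hRN hcoreN hCR⟩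
    · exfalso
      refine false_of_not_centric hp hTH hT hst hRN hcoreN (fun U hU => le_sSup hU) hRne hCR fun Ω' _ H' T' hT' _ hS hst' hc => ?_
      exact (ih _ (hn ▸ hc) H' T' hT' hS hst' rfl).2
  · have hR₁ : (fusionSystemOfSubgroup H T hTH).core ≤ T := hcoreT
    have : Finite (fusionSystemOfSubgroup H T hTH).core := Finite.of_injective (Subgroup.inclusion hR₁) (Subgroup.inclusion_injective hR₁)
    have hle : T ≤ normalizerIn H (fusionSystemOfSubgroup H T hTH).core :=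
      fun t ht => mem_normalizerIn.2 ⟨hTH ht, StronglyClosed.le_normalizer (IsNormal.stronglyClosed hcoreN) ht⟩
    have hH₁le : normalizerIn H (fusionSystemOfSubgroup H T hTH).core ≤ H := normalizerIn_le _
    have : Finite (normalizerIn H (fusionSystemOfSubgroup H T hTH).core) := Finite.of_injective (Subgroup.inclusion hH₁le) (Subgroup.inclusion_injective hH₁le)
    have hne : normalizerIn H (fusionSystemOfSubgroup H T hTH).core ≠ H := by
      intro he
      apply hRN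
      intro g hg
      exact (mem_normalizerIn.1 (he.symm ▸ hg : g ∈ normalizerIn H (fusionSystemOfSubgroup H T hTH).core)).2
    have hcard : Nat.card (normalizerIn H (fusionSystemOfSubgroup H T hTH).core) < n :=
      hn ▸ Fusion.card_lt_of_lt (S := H) le_rfl (lt_of_le_of_ne hH₁le hne)
    have hres := ih _ hcard _ T hle (hT.of_le hTH hle hH₁le) (stable_le hst hH₁le) rfl
    rwa [eq_fH_normalizer hTH hcoreN hle] at hres

/-- The fusion system of a `p`-stable group, in the form of the group's system. -/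
theorem group_stable_main (hp : p ≠ 2) {G : Type u} [Group G] [Finite G] (P : Sylow p G)
    (hst : IsStableSys (groupFusionSystem (P : Subgroup G)) p) :
    (groupFusionSystem (P : Subgroup G)).IsConstrained p ∧
      (groupFusionSystem (P : Subgroup G)).IsNormal (funW Fusion.zjFun.{u} (P : Subgroup G)) := by
  have h1 := isNormalizerPStable_of_sys P hst
  have h2 := stable_subgroup h1 (⊤ : Subgroup G)
  have h3 := stable_main hp _ (⊤ : Subgroup G) (P : Subgroup G) le_top (isSylowIn_of_sylow P) h2 rfl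
  rwa [← groupFusionSystem_eq] at h3

end main

end Cfsg.Agent.Lib.PStableQ.FusionMain
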